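import Cfsg.Agent.DCE.L6.Crt

/-!
No normaliser of a nontrivial `p`-subgroup with `p > 5` is maximal.
-/

set_option autoImplicit false

namespace Cfsg.Agent.DCE.L6
open Cfsg.Agent.Comp Cfsg.Agent.FE6 Matrix

variable {G : Type*} [Group G] {ρ : G →* Mt}

/-- no nontrivial subgroup has a maximal normaliser -/
def NM (S : Subgroup G) : Prop := ∀ P ≤ S, P ≠ ⊥ → ¬ IsCoatom (Subgroup.normalizer (P : Set G))

theorem NM.conj {S P : Subgroup G} (h : NM S) {g : G} (h1 : P.map (MulAut.conj g).toMonoidHom ≤ S)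
    (h2 : P ≠ ⊥) : ¬ IsCoatom (Subgroup.normalizer (P : Set G)) := fun hc => by
  refine h _ h1 (fun e => h2 ((Subgroup.map_eq_bot_iff_of_injective _ (MulAut.conj g).injective).1 e)) ?_
  rw [← Subgroup.map_equiv_normalizer_eq]
  exact (((MulAut.conj g : G ≃* G).mapSubgroup).isCoatom_iff _).2 hc

theorem eq_of_prime [Finite G] {S P : Subgroup G} {p : ℕ} (hp : p.Prime) (h : Nat.card S = p)
    (h1 : P ≤ S) (h2 : P ≠ ⊥) : P = S :=
  Subgroup.eq_of_le_of_card_ge h1 (by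
    rcases (Nat.dvd_prime hp).1 (h ▸ Subgroup.card_dvd_of_le h1) with e | e
    · exact absurd (Subgroup.card_eq_one.1 e) h2
    · omega)

theorem nm_cyc [Finite G] {x : G} {p : ℕ} (hp : p.Prime) (hx : orderOf x = p)
    (h : ¬ IsCoatom (Subgroup.normalizer (Subgroup.closure {x, x} : Set G))) : NM (.zpowers x) :=
  fun P h1 h2 => by
    rwa [eq_of_prime hp ((Nat.card_zpowers x).trans hx) h1 h2, Subgroup.zpowers_eq_closure,
      ← Set.pair_eq_singleton]

theorem NM.sylow [Finite G] {S P : Subgroup G} (h : NM S) {p : ℕ} (hp : p.Prime)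
    (hS : Nat.card S = p ^ (Nat.card G).factorization p) (h1 : IsPGroup p P) (h2 : P ≠ ⊥) :
    ¬ IsCoatom (Subgroup.normalizer (P : Set G)) := by
  haveI := Fact.mk hp
  obtain ⟨Q, hQ⟩ := h1.exists_le_sylow
  obtain ⟨g, hg⟩ := MulAction.exists_smul_eq G Q (Sylow.ofCard S hS)
  refine h.conj (g := g) ?_ h2
  rw [← Sylow.coe_ofCard S hS, ← hg]
  exact Subgroup.map_mono hQ

theorem pm_rep (T : List ℕ) (n k : ℕ) : pm (evP T (List.replicate n k)) = pm (T.getD k II) ^ n := by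
  rw [pm_evP, ev, List.map_replicate, List.prod_replicate]

theorem ord (hρ : Act ρ) {x : G} {X p : ℕ} (hx : ρ x = pm X) (hp : p.Prime)
    (h : (X, p) ∈ [(xa, 7), (xb, 7), (x11, 11), (x13, 13), (x17, 17), (x19, 19)]) : orderOf x = p := by
  haveI := Fact.mk hp
  obtain ⟨h1, h2⟩ := (band_eq _ _).1 ((lall_eq _ _).1 ords _ h)
  refine orderOf_eq_prime (hρ.inj ?_) fun e => pm_ne' h2 (by rw [← hx, e, map_one, pm_II])
  rw [map_pow, hx, map_one, ← pm_II, ← Nat.eq_of_beq_eq_true h1, pm_rep]; rfl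

theorem nm49 [Finite G] (hρ : Act ρ) {a b : G} (ha : ρ a = pm xa) (hb : ρ b = pm xb)
    (h49 : ¬ 7 ^ 3 ∣ Nat.card G) :
    Nat.card (Subgroup.closure {a, b} : Subgroup G) = 7 ^ 2 ∧ NM (Subgroup.closure {a, b}) := by
  classical
  have h7 : Nat.Prime 7 := by norm_num
  haveI := Fact.mk h7
  have hg : ∀ k < 12, In ρ (nth II GP k) := fun k hk => by
    rw [nth_eq, List.getD_eq_getElem GP _ hk]; exact hρ.gen _ (List.getElem_mem _)
  have oa := ord hρ ha h7 (by simp)
  have ob := ord hρ hb h7 (by simp)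
  have na := nm_cyc h7 oa (nonmax' hρ b7a ha ha (hg _ (by norm_num)) (hg _ (by norm_num))
    (norm_br hρ (by decide) s7a ha))
  have nb := nm_cyc h7 ob (nonmax' hρ b7b hb hb (hg _ (by norm_num)) (hg _ (by norm_num))
    (norm_br hρ (by decide) s7b hb))
  have n49 := nonmax' hρ b49 ha hb (hg _ (by norm_num)) (hg _ (by norm_num))
    (norm_poly hρ (by decide) s49 ha hb)
  have hc : Commute a b := hρ.inj (by
    rw [map_mul, map_mul, ha, hb, ← pm_mu, ← pm_mu,
      Nat.eq_of_beq_eq_true ((band_eq _ _).1 b49).1])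
  have a7 : a ^ 7 = 1 := oa ▸ pow_orderOf_eq_one a
  have b7 : b ^ 7 = 1 := ob ▸ pow_orderOf_eq_one b
  have h1 : ∀ g ∈ Subgroup.closure {a, b}, ∃ i j : ℕ, g = a ^ i * b ^ j := fun g hg => by
    have h : g ∈ (Subgroup.closure {a, b}).toSubmonoid := hg
    rw [Subgroup.closure_toSubmonoid_of_finite] at h
    induction h using Submonoid.closure_induction with
    | mem x hx => rcases hx with rfl | rfl; exacts [⟨1, 0, by simp⟩, ⟨0, 1, by simp⟩]
    | one => exact ⟨0, 0, by simp⟩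
    | mul x y hx hy h1 h2 =>
      rw [← Subgroup.closure_toSubmonoid_of_finite] at hx hy
      obtain ⟨i, j, rfl⟩ := h1 hx
      obtain ⟨k, l, rfl⟩ := h2 hy
      exact ⟨i + k, j + l, by rw [pow_add, pow_add, (hc.symm.pow_pow j k).mul_mul_mul_comm]⟩
  have h2 : ∀ i j : ℕ, (a ^ i * b ^ j) ^ 7 = 1 := fun i j => by
    rw [(hc.pow_pow i j).mul_pow, pow_right_comm, a7, pow_right_comm, b7, one_pow, one_pow, mul_one]
  obtain ⟨n, hn⟩ := IsPGroup.iff_card.1 (show IsPGroup 7 (Subgroup.closure {a, b} : Subgroup G) from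
    fun g => ⟨1, Subtype.ext (by obtain ⟨i, j, e⟩ := h1 g g.2; simp [e, h2])⟩)
  have h3 : Subgroup.zpowers a < Subgroup.closure {a, b} := by
    refine lt_of_le_of_ne ((Subgroup.zpowers_le).2 (Subgroup.subset_closure (by simp))) fun e => ?_
    have : b ∈ Subgroup.zpowers a := e ▸ Subgroup.subset_closure (by simp)
    obtain ⟨i, hi, e⟩ := Finset.mem_image.1 (mem_zpowers_iff_mem_range_orderOf.1 this)
    refine pm_ne' ((lall_eq _ _).1 indep i (List.mem_range.2 (oa ▸ Finset.mem_range.1 hi))) ?_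
    rw [pm_rep, ← hb, ← e, map_pow, ha]; rfl
  have h4 : n = 2 := by
    have e1 := Subgroup.card_subgroup_dvd_card (Subgroup.closure {a, b})
    have e2 : n < 3 := lt_of_not_ge fun e => h49 ((pow_dvd_pow 7 e).trans (hn ▸ e1))
    have e3 : ¬ Nat.card (Subgroup.closure {a, b} : Subgroup G) ≤ Nat.card (Subgroup.zpowers a) :=
      fun e => h3.ne (Subgroup.eq_of_le_of_card_ge h3.le e)
    rw [hn, Nat.card_zpowers, oa] at e3
    interval_cases n <;> simp_all
  subst h4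
  refine ⟨hn, fun P h5 h6 => ?_⟩
  obtain ⟨k, hk, e⟩ := (Nat.dvd_prime_pow h7).1 (hn ▸ Subgroup.card_dvd_of_le h5)
  interval_cases k
  · exact absurd (Subgroup.card_eq_one.1 e) h6
  swap
  · rwa [Subgroup.eq_of_le_of_card_ge h5 (by rw [hn, e])]
  have h8 : ∀ c ∈ P, c ≠ 1 → P = Subgroup.zpowers c := fun c h1 h2 =>
    (eq_of_prime h7 e ((Subgroup.zpowers_le).2 h1) (by simpa using h2)).symm
  obtain ⟨⟨c, h9⟩, h10⟩ := (Subgroup.ne_bot_iff_exists_ne_one).1 h6
  have h11 : c ≠ 1 := fun e => h10 (Subtype.ext e)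
  obtain ⟨i, j, rfl⟩ := h1 c (h5 h9)
  rw [← pow_mod_orderOf b, ob] at h9 h11
  rcases eq_or_ne (j % 7) 0 with e0 | e0
  · rw [e0, pow_zero, mul_one] at h9 h11
    exact na P (by rw [h8 _ h9 h11]; exact (Subgroup.zpowers_le).2 (pow_mem (Subgroup.mem_zpowers a) i)) h6
  obtain ⟨m, hm⟩ : ∃ m, j % 7 * m % 7 = 1 := by
    have : ∀ j < 7, j ≠ 0 → ∃ m < 7, j * m % 7 = 1 := by decide
    exact (this _ (Nat.mod_lt _ (by norm_num)) e0).imp fun _ h => h.2
  have h12 := pow_mem h9 m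
  rw [(hc.pow_pow _ _).mul_pow, ← pow_mul, ← pow_mul, ← pow_mod_orderOf b, ← pow_mod_orderOf a, oa, ob,
    hm, pow_one] at h12
  have h13 : i * m % 7 < 7 := Nat.mod_lt _ (by norm_num)
  generalize i * m % 7 = i at h12 h13
  have h14 := h8 _ h12 fun e => h3.not_ge ((Subgroup.closure_le _).2 (by
    rintro x (rfl | rfl)
    · exact Subgroup.mem_zpowers _
    · rw [eq_inv_of_mul_eq_one_right e]; exact inv_mem (pow_mem (Subgroup.mem_zpowers _) _)))
  rcases eq_or_ne i 0 with rfl | e1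
  · exact nb P (by rw [h14, pow_zero, one_mul]) h6
  have h15 : ∀ i < 7, i ≠ 0 → ∃ e ∈ CJ, e.1 = i ∧ e.2.1 ∈ E1.map Prod.fst ∧ e.2.2.1 < 2 := by
    decide +kernel
  obtain ⟨⟨_, X, s, k⟩, h16, rfl, h17, h18⟩ := h15 i h13 e1
  obtain ⟨g, hg⟩ := in_tab hρ.gen E1c X h17
  have h19 := congrArg pm (Nat.eq_of_beq_eq_true ((lall_eq _ _).1 cjs _ h16))
  simp only [pm_mu, pm_rep] at h19
  rw [pm_evP, ev_append, ev_single, ← pm_evP, pm_rep] at h19
  have h20 : ∀ x : G, ρ x = pm ([xa, xb].getD s II) →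
      P.map (MulAut.conj g).toMonoidHom ≤ Subgroup.zpowers x := fun x hx => by
    rw [h14, MonoidHom.map_zpowers, Subgroup.zpowers_le]
    refine ⟨(k : ℕ), ?_⟩
    change x ^ (k : ℤ) = g * _ * g⁻¹
    rw [zpow_natCast, eq_mul_inv_iff_mul_eq]
    exact hρ.inj (by rw [map_mul, map_mul, map_mul, map_pow, map_pow, hx, hg, ha, hb]; exact h19.symm)
  simp only at h18
  interval_cases s
  exacts [na.conj (h20 a ha) h6, nb.conj (h20 b hb) h6]

theorem main [Finite G] (hρ : Act ρ) (hG : Nat.card G = 76532479683774853939200) {p : ℕ} (hp : p.Prime)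
    (h5 : 5 < p) {P : Subgroup G} (hP : IsPGroup p P) (hP1 : P ≠ ⊥) :
    ¬ IsCoatom (Subgroup.normalizer (P : Set G)) := by
  haveI := Fact.mk hp
  have hg : ∀ k < 12, In ρ (nth II GP k) := fun k hk => by
    rw [nth_eq, List.getD_eq_getElem GP _ hk]; exact hρ.gen _ (List.getElem_mem _)
  have h1 := in_tab hρ.gen E1c
  have h3 := in_tab (in_tab hρ.gen E2c) E3c
  have hd : p ∣ 2 ^ 36 * 3 ^ 9 * 5 ^ 2 * 7 ^ 2 * 11 * 13 * 17 * 19 := by
    obtain ⟨n, hn⟩ := IsPGroup.iff_card.1 hP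
    have e1 := Subgroup.card_subgroup_dvd_card P
    rw [hn, hG] at e1
    refine (dvd_pow_self p ?_).trans e1
    rintro rfl
    exact hP1 (Subgroup.card_eq_one.1 hn)
  have hf : ∀ {q k : ℕ}, q.Prime → q ^ k ∣ 76532479683774853939200 → ¬ q ^ (k + 1) ∣ 76532479683774853939200 →
      (Nat.card G).factorization q = k := fun {q k} hq e1 e2 => by
    rw [hG]
    exact le_antisymm (Nat.lt_succ_iff.1 (lt_of_not_ge fun e =>
      e2 ((hq.pow_dvd_iff_le_factorization (by norm_num)).2 e)))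
      ((hq.pow_dvd_iff_le_factorization (by norm_num)).1 e1)
  have hc : ∀ {x : G}, orderOf x = p → ¬ p ^ (1 + 1) ∣ 76532479683774853939200 →
      ¬ IsCoatom (Subgroup.normalizer (Subgroup.closure {x, x} : Set G)) →
      ¬ IsCoatom (Subgroup.normalizer (P : Set G)) := fun {x} e1 e2 e3 =>
    (nm_cyc hp e1 e3).sylow hp (by
      rw [hf hp (by rw [pow_one]; exact hd) e2, pow_one, Nat.card_zpowers, e1]) hP hP1
  have hq : ∀ {q k : ℕ}, q.Prime → p ∣ q ^ k → p = q := fun hq e =>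
    (Nat.prime_dvd_prime_iff_eq hp hq).1 (hp.dvd_of_dvd_pow e)
  have hq' : ∀ {q : ℕ}, q.Prime → p ∣ q → p = q := fun hq e => (Nat.prime_dvd_prime_iff_eq hp hq).1 e
  simp only [hp.dvd_mul] at hd
  rcases hd with ((((((e | e) | e) | e) | e) | e) | e) | e
  · have := hq (by norm_num) e; omega
  · have := hq (by norm_num) e; omega
  · have := hq (by norm_num) e; omega
  · obtain rfl := hq (by norm_num) e
    obtain ⟨a, ha⟩ := h1 xa (by decide +kernel)
    obtain ⟨b, hb⟩ := h1 xb (by decide +kernel)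
    obtain ⟨e1, e2⟩ := nm49 hρ ha hb (by rw [hG]; norm_num)
    exact e2.sylow hp (by rw [e1, hf (k := 2) hp (by norm_num) (by norm_num)]) hP hP1
  · obtain rfl := hq' (by norm_num) e
    obtain ⟨a, ha⟩ := h1 x11 (by decide +kernel)
    exact hc (ord hρ ha hp (by simp)) (by norm_num) (nonmax' hρ b11 ha ha (hg _ (by norm_num))
      (hg _ (by norm_num)) (norm_br hρ (by decide) s11 ha))
  · obtain rfl := hq' (by norm_num) e
    obtain ⟨a, ha⟩ := h1 x13 (by decide +kernel)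
    exact hc (ord hρ ha hp (by simp)) (by norm_num) (nonmax' hρ b13 ha ha (h1 _ (by decide +kernel))
      (hg _ (by norm_num)) (norm_poly hρ (by decide) s13 ha ha))
  · obtain rfl := hq' (by norm_num) e
    obtain ⟨a, ha⟩ := h1 x17 (by decide +kernel)
    exact hc (ord hρ ha hp (by simp)) (by norm_num) (nonmax' hρ b17 ha ha (h1 _ (by decide +kernel))
      (hg _ (by norm_num)) (norm_poly hρ (by decide) s17 ha ha))
  · obtain rfl := hq' (by norm_num) e
    obtain ⟨a, ha⟩ := h3 x19 (by decide +kernel)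
    exact hc (ord hρ ha hp (by simp)) (by norm_num) (nonmax' hρ b19 ha ha (h3 _ (by decide +kernel))
      (hg _ (by norm_num)) (norm_poly hρ (by decide) s19 ha ha))

end Cfsg.Agent.DCE.L6
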