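import Cfsg.Agent.DCE.L6.Rep

/-!
Criteria for a normaliser not to be maximal.
-/

set_option autoImplicit false

namespace Cfsg.Agent.DCE.L6
open Cfsg.Agent.Comp Cfsg.Agent.FE6 Matrix

variable {G : Type*} [Group G] {ρ : G →* Mt}

theorem nonmax [Finite G] {N : Subgroup G} {π : Mt} (h1 : ∀ n ∈ N, π * (ρ n * π) = ρ n * π) {y z : G}
    (h2 : π * (ρ y * π) = ρ y * π) (h3 : y ∉ N) (h4 : π * (ρ z * π) ≠ ρ z * π) : ¬ IsCoatom N := by
  intro hc
  let S : Submonoid G := ⟨⟨{g | π * (ρ g * π) = ρ g * π}, fun {a b} ha hb => by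
    have ha' : π * (ρ a * π) = ρ a * π := ha
    have hb' : π * (ρ b * π) = ρ b * π := hb
    change π * (ρ (a * b) * π) = ρ (a * b) * π
    rw [map_mul, mul_assoc (ρ a), ← hb', ← mul_assoc (ρ a), ← mul_assoc π, ha']⟩, h1 1 N.one_mem⟩
  have h5 : N < Subgroup.closure (S : Set G) :=
    lt_of_le_of_ne (fun n hn => Subgroup.subset_closure (h1 n hn)) fun e =>
      h3 (e ▸ Subgroup.subset_closure h2)
  have h6 : z ∈ (Subgroup.closure (S : Set G)).toSubmonoid := by rw [hc.2 _ h5]; trivial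
  rw [Subgroup.closure_toSubmonoid_of_finite, Submonoid.closure_eq] at h6
  exact h4 h6

/-- the number stands for a matrix in the image -/
def In (ρ : G →* Mt) (X : ℕ) : Prop := ∃ g, ρ g = pm X

theorem in_evP {T : List ℕ} (h : ∀ X ∈ T, In ρ X) (w : List ℕ) : In ρ (evP T w) := by
  induction w with
  | nil => exact ⟨1, (map_one _).trans pm_II.symm⟩
  | cons a w ih =>
    obtain ⟨g, hg⟩ := ih
    obtain ⟨k, hk⟩ : In ρ (nth II T a) := by
      rw [nth_eq]
      rcases lt_or_ge a T.length with e | e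
      · rw [List.getD_eq_getElem _ _ e]; exact h _ (List.getElem_mem _)
      · rw [List.getD_eq_default _ _ e]; exact ⟨1, (map_one _).trans pm_II.symm⟩
    exact ⟨k * g, by rw [map_mul, hg, hk, ← pm_mu]; rfl⟩

theorem in_tab {T : List ℕ} (h : ∀ X ∈ T, In ρ X) {E : List (ℕ × List ℕ)}
    (hE : lall (fun e => Nat.beq e.1 (evP T e.2)) E = true) : ∀ X ∈ E.map Prod.fst, In ρ X := by
  intro X hX
  obtain ⟨e, he, rfl⟩ := List.mem_map.1 hX
  rw [Nat.eq_of_beq_eq_true ((lall_eq _ _).1 hE e he)]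
  exact in_evP h _

/-- common fixed vectors -/
def Fx (A B : Mt) (v : Vc) : Prop := A *ᵥ v = v ∧ B *ᵥ v = v

theorem fx_norm {a b n : G} (hn : n ∈ Subgroup.normalizer (Subgroup.closure {a, b} : Set G)) {v : Vc}
    (h : Fx (ρ a) (ρ b) v) : Fx (ρ a) (ρ b) (ρ n *ᵥ v) := by
  have h1 : ∀ g ∈ Subgroup.closure {a, b}, ρ g *ᵥ v = v := fun g hg => by
    induction hg using Subgroup.closure_induction with
    | mem x hx => rcases hx with rfl | rfl; exacts [h.1, h.2]
    | one => simp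
    | mul x y _ _ hx hy => rw [map_mul, ← mulVec_mulVec, hy, hx]
    | inv x _ hx => rw [← hx, mulVec_mulVec, ← map_mul, inv_mul_cancel, map_one, one_mulVec, hx]
  have h2 : ∀ g ∈ Subgroup.closure {a, b}, ρ g *ᵥ ρ n *ᵥ v = ρ n *ᵥ v := fun g hg => by
    have := h1 _ ((Subgroup.mem_normalizer_iff''.1 hn g).1 hg)
    have e : g * n = n * (n⁻¹ * g * n) := by group
    rw [mulVec_mulVec, ← map_mul, e, map_mul, ← mulVec_mulVec, this]
  exact ⟨h2 _ (Subgroup.subset_closure (by simp)), h2 _ (Subgroup.subset_closure (by simp))⟩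

theorem hp_rep {A : Mt} {v : Vc} (h : A *ᵥ v = v) (n : ℕ) :
    hp A (List.replicate n true) *ᵥ v = (n : ZMod 2) • v := by
  induction n with
  | zero => simp [hp]
  | succ n ih =>
    rw [List.replicate_succ, hp, add_mulVec, ← mulVec_mulVec, ih, mulVec_smul, h]
    simp [add_smul]

/-- the projection -/
noncomputable def prj (A B p : Nat) : Nat :=
  mu (hpP A (List.replicate p true)) (hpP B (List.replicate p true))

theorem prj_fx {A B p : ℕ} (hp : (p : ZMod 2) = 1) {v : Vc} (h : Fx (pm A) (pm B) v) :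
    pm (prj A B p) *ᵥ v = v := by
  rw [prj, pm_mu, pm_hpP, pm_hpP, ← mulVec_mulVec, hp_rep h.2, hp, one_smul, hp_rep h.1, hp, one_smul]

/-- the common checks -/
noncomputable def chkB (A B Y Y' Z π : Nat) : Bool :=
  band (Nat.beq (mu A B) (mu B A)) <| band (Nat.beq (mu Y Y') II) <|
  band (nez (Nat.xor (mu (mu Y (mu A Y')) A) (mu A (mu Y (mu A Y'))))) <|
  band (Nat.beq (mu π (mu Y π)) (mu Y π)) (nez (Nat.xor (mu π (mu Z π)) (mu Z π)))

theorem nonmax' [Finite G] (hρ : Act ρ) {A B Y Y' Z π : ℕ} (h : chkB A B Y Y' Z π = true) {a b : G}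
    (ha : ρ a = pm A) (hb : ρ b = pm B) (hy : In ρ Y) (hz : In ρ Z)
    (h1 : ∀ n ∈ Subgroup.normalizer (Subgroup.closure {a, b} : Set G),
      pm π * (ρ n * pm π) = ρ n * pm π) :
    ¬ IsCoatom (Subgroup.normalizer (Subgroup.closure {a, b} : Set G)) := by
  simp only [chkB, band_eq, Nat.beq_eq] at h
  obtain ⟨c1, c2, c3, c4, c5⟩ := h
  obtain ⟨y, hy⟩ := hy
  obtain ⟨z, hz⟩ := hz
  refine nonmax h1 (y := y) (z := z) (by rw [hy, ← pm_mu, ← pm_mu, c4]) (fun hn => pm_ne' c3 ?_)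
    (by rw [hz, ← pm_mu, ← pm_mu]; exact pm_ne' c5)
  have h2 : a * b = b * a := hρ.inj (by rw [map_mul, map_mul, ha, hb, ← pm_mu, ← pm_mu, c1])
  have h3 : Subgroup.closure {a, b} ≤ Subgroup.centralizer {a} := (Subgroup.closure_le _).2 (by
    rintro x (rfl | rfl) _ rfl
    exacts [rfl, h2])
  have h4 := h3 ((Subgroup.mem_normalizer_iff.1 hn a).1 (Subgroup.subset_closure (by simp))) a rfl
  have h5 : ρ y⁻¹ = pm Y' := by
    rw [← mul_one (ρ y⁻¹), ← pm_II, ← c2, pm_mu, ← hy, ← mul_assoc, ← map_mul, inv_mul_cancel, map_one,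
      one_mul]
  have := congrArg ρ h4
  simp only [map_mul, ha, hy, h5] at this
  simp only [pm_mu, ← mul_assoc, this]

theorem exists_small {BM d : ℕ} (h : BM < 2 ^ (d * 78)) (c : Vc) :
    ∃ j < 2 ^ d, pm BM *ᵥ c = pv (mu BM j) := by
  obtain ⟨j, h1, h2⟩ := exists_bits d fun k => if h : ∃ l, men l = k then c h.choose else 0
  refine ⟨j, h1, ?_⟩
  rw [pv_mu]
  ext i
  rw [mulVec, mulVec, dotProduct, dotProduct]
  refine Finset.sum_congr rfl fun l _ => ?_
  refine (lt_or_ge (men l) d).elim (fun e => ?_) fun e => ?_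
  · have h3 : ∃ l', men l' = men l := ⟨l, rfl⟩
    have h4 : pv j l = c l := (h2 _ e).trans ((dif_pos h3).trans
      (congrArg c (menum.2.2.1 _ _ h3.choose_spec)))
    rw [h4]
  · have : pm BM i l = 0 := by
      rw [pm, of_apply, Nat.testBit_lt_two_pow (h.trans_le (Nat.pow_le_pow_right (by norm_num)
        (by nlinarith)))]; rfl
    simp [this]

/-- lazy disjunction -/
noncomputable def bor (a b : Bool) : Bool := @Bool.rec (fun _ => Bool) b true a

theorem bor_eq (a b : Bool) : bor a b = true ↔ a = true ∨ b = true := by cases a <;> simp [bor]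

/-- the checks for a regular subgroup -/
noncomputable def chkP (A B p BM C u E : Nat) (q r : List Bool) : Bool :=
  band (Nat.beq (prj A B p) (mu BM C)) <| band (Nat.blt BM (Nat.pow 2 (6 * 78))) <|
  band (Nat.beq (mu A u) u) <| band (Nat.beq (mu B u) u) <| band (Nat.beq (hpP (cmb NP u) q) 0) <|
  band (Nat.beq (hpP (cmb NP u) r) E) <| band (Nat.beq (mu E E) E) <| band (nez E) <|
  lall (fun j => frc (cmb NP (mu BM j)) fun X => bor (nez (hpP X q)) (frc (hpP X r) fun Y =>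
    bor (Nat.beq Y E) (Nat.beq Y 0))) (List.range 64)

theorem norm_poly (hρ : Act ρ) {A B p BM C u E : ℕ} {q r : List Bool} (hp : (p : ZMod 2) = 1)
    (h : chkP A B p BM C u E q r = true) {a b : G} (ha : ρ a = pm A) (hb : ρ b = pm B) :
    ∀ n ∈ Subgroup.normalizer (Subgroup.closure {a, b} : Set G), pm E * (ρ n * pm E) = ρ n * pm E := by
  simp only [chkP, band_eq, Nat.beq_eq, lall_eq, frc_eq, bor_eq, Nat.blt_eq] at h
  obtain ⟨c1, c2, c3, c4, c5, c6, c7, c8, c9⟩ := h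
  intro n hn
  have h1 := fx_norm (ρ := ρ) hn (v := pv u) ⟨by rw [ha, ← pv_mu, c3], by rw [hb, ← pv_mu, c4]⟩
  rw [ha, hb] at h1
  have h2 := prj_fx hp h1
  rw [c1, pm_mu, ← mulVec_mulVec] at h2
  obtain ⟨j, hj, e⟩ := exists_small (d := 6) c2 (pm C *ᵥ ρ n *ᵥ pv u)
  have h3 := hρ.aut n (pv u)
  rw [← h2, e, ad_pv, ad_pv] at h3
  have h4 := fun l => hp_conj h3 l
  simp only [← pm_hpP] at h4
  have h5 : ρ n * ρ n⁻¹ = 1 := by rw [← map_mul, mul_inv_cancel, map_one]
  have h6 : ρ n⁻¹ * ρ n = 1 := by rw [← map_mul, inv_mul_cancel, map_one]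
  rcases c9 j (List.mem_range.2 hj) with e | e | e
  · refine absurd ?_ (pm_ne e)
    rw [← mul_one (pm _), ← h5, ← mul_assoc, ← h4, c5, pm_zero, mul_zero, zero_mul]
  · have := h4 r
    rw [c6, e] at this
    rw [this, ← mul_assoc, ← pm_mu, c7]
  · refine absurd ?_ (pm_ne c8)
    rw [← one_mul (pm _), ← h6, mul_assoc, ← c6, h4, e, pm_zero, zero_mul, mul_zero]

/-- sums of brackets -/
noncomputable def smB (P : Nat) (L : List (Nat × Nat)) : Nat :=
  @List.rec (Nat × Nat) (fun _ => Nat) (nat_lit 0)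
    (fun e _ ih => Nat.xor (mu (cmb NP e.1) (mu P e.2)) ih) L

/-- the checks for a singular subgroup -/
noncomputable def chkS (A p π : Nat) (L : List (Nat × Nat)) : Bool :=
  frc (prj A A p) fun P => band (Nat.beq (mu A P) P) <| band (Nat.beq π (smB P L)) <|
  band (lall (fun e => Nat.beq (mu A e.1) e.1) L) <|
  lall (fun k => frc (mu (cmb NP (Nat.shiftRight P (Nat.mul k (nat_lit 78)))) P) fun X =>
    Nat.beq (mu π X) X) (List.range 78)

theorem norm_br (hρ : Act ρ) {A p π : ℕ} {L : List (ℕ × ℕ)} (hp : (p : ZMod 2) = 1)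
    (h : chkS A p π L = true) {a : G} (ha : ρ a = pm A) :
    ∀ n ∈ Subgroup.normalizer (Subgroup.closure {a, a} : Set G), pm π * (ρ n * pm π) = ρ n * pm π := by
  simp only [chkS, band_eq, Nat.beq_eq, lall_eq, frc_eq] at h
  obtain ⟨c1, c2, c3, c4⟩ := h
  generalize hP : prj A A p = P at c1 c2 c4
  have h0 : ∀ v, Fx (pm A) (pm A) v → pm P *ᵥ v = v := fun v hv => hP ▸ prj_fx hp hv
  have h1 : ∀ l : I, pm π * (ad (pm P *ᵥ Pi.single l 1) * pm P) = ad (pm P *ᵥ Pi.single l 1) * pm P :=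
    fun l => by
      have := congrArg pm (c4 (men l) (List.mem_range.2 (men_lt l)))
      rw [pm_mu, pm_mu] at this
      rw [pm_col, ad_pv]; exact this
  have h2 : ∀ u, pm π * (ad (pm P *ᵥ u) * pm P) = ad (pm P *ᵥ u) * pm P := fun u => by
    rw [pi_eq_sum_univ' u]
    simp only [map_sum, map_smul, mulVec_sum, mulVec_smul, Finset.mul_sum, Finset.sum_mul,
      mul_smul_comm, smul_mul_assoc, h1]
  intro n hn
  have h3 : pm P * (ρ n * pm P) = ρ n * pm P := by
    refine Matrix.ext_of_mulVec_single fun l => ?_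
    have e : pm A *ᵥ pm P *ᵥ Pi.single l 1 = pm P *ᵥ Pi.single l 1 := by
      rw [mulVec_mulVec, ← pm_mu, c1]
    have := fx_norm (ρ := ρ) hn (v := pm P *ᵥ Pi.single l 1) (ha ▸ ⟨e, e⟩)
    rw [ha] at this
    simpa only [mulVec_mulVec] using h0 _ this
  have h4 : ∀ L : List (ℕ × ℕ), (∀ e ∈ L, mu A e.1 = e.1) →
      pm π * (ρ n * pm (smB P L)) = ρ n * pm (smB P L) := fun L hL => by
    induction L with
    | nil => rw [show smB P [] = 0 from rfl, pm_zero, mul_zero, mul_zero]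
    | cons e L ih =>
      rw [List.forall_mem_cons] at hL
      have e1 : pm A *ᵥ pv e.1 = pv e.1 := by rw [← pv_mu, hL.1]
      have e2 := fx_norm (ρ := ρ) hn (v := pv e.1) (ha ▸ ⟨e1, e1⟩)
      rw [ha] at e2
      have e3 := h2 (ρ n *ᵥ pv e.1)
      rw [h0 _ e2] at e3
      rw [show smB P (e :: L) = mu (cmb NP e.1) (mu P e.2) ^^^ smB P L from rfl, pm_xor, mul_add,
        mul_add, ih hL.2, pm_mu, pm_mu, ← ad_pv, ← mul_assoc (ρ n), hρ.aut, mul_assoc,
        ← mul_assoc (ρ n), ← h3, ← mul_assoc (ad _), ← mul_assoc (ad _), mul_assoc (ad _ * _),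
        ← mul_assoc (pm π), e3]
  have := h4 L c3
  rwa [← c2] at this

end Cfsg.Agent.DCE.L6
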