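import Cfsg.Agent.FE6.Data

/-!
Matrices of size 78 over the field with two elements, stored in one number.
-/

set_option autoImplicit false

namespace Cfsg.Agent.DCE.L6
open Cfsg.Agent.Comp Cfsg.Agent.FE6 Matrix

/-- the index set -/
abbrev I : Type := Lie.chevE6.Idx
/-- the matrices -/
abbrev Mt : Type := Matrix I I (ZMod 2)
/-- the vectors -/
abbrev Vc : Type := I → ZMod 2

/-- a bit as a scalar -/
def b2 (b : Bool) : ZMod 2 := if b then 1 else 0

theorem b2_xor (a b : Bool) : b2 (a ^^ b) = b2 a + b2 b := by revert a b; decide
theorem b2_and (a b : Bool) : b2 (a && b) = b2 a * b2 b := by revert a b; decide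
theorem b2_inj {a b : Bool} (h : b2 a = b2 b) : a = b := by revert a b; decide

/-- the matrix of a number -/
def pm (X : ℕ) : Mt := of fun i j => b2 (X.testBit (men j * 78 + men i))
/-- the vector of a number -/
def pv (v : ℕ) : Vc := fun i => b2 (v.testBit (men i))

theorem men_lt (i : I) : men i < 78 := menum.2.1 i

theorem sum_men {M : Type*} [AddCommMonoid M] (f : ℕ → M) :
    ∑ l : I, f (men l) = ∑ k ∈ Finset.range 78, f k :=
  Finset.sum_bij (fun l _ => men l) (fun l _ => Finset.mem_range.2 (men_lt l))
    (fun a _ b _ h => menum.2.2.1 a b h)
    (fun k hk => (menum.2.2.2 k (Finset.mem_range.1 hk)).imp fun _ h => ⟨Finset.mem_univ _, h⟩)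
    fun _ _ => rfl

theorem pm_xor (X Y : ℕ) : pm (X ^^^ Y) = pm X + pm Y := by
  ext i j; simp [pm, Nat.testBit_xor, b2_xor]

theorem pv_xor (X Y : ℕ) : pv (X ^^^ Y) = pv X + pv Y := by
  ext i; simp [pv, Nat.testBit_xor, b2_xor]

theorem pm_zero : pm 0 = 0 := by ext i j; simp [pm, b2]
theorem pv_zero : pv 0 = 0 := by ext i; simp [pv, b2]

/-- partial products -/
noncomputable def mulR (R X Y n : Nat) : Nat :=
  @Nat.rec (fun _ => Nat) (nat_lit 0) (fun k ih => Nat.xor (Nat.mul (Nat.land (Nat.shiftRight Y k) R)
    (Nat.mod (Nat.shiftRight X (Nat.mul k (nat_lit 78))) (nat_lit 302231454903657293676544))) ih) n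

theorem bit_mulR (X Y n : ℕ) {c i : ℕ} (hc : c < 78) (hi : i < 78) :
    b2 ((mulR (repl 78 78) X Y n).testBit (c * 78 + i)) =
      ∑ k ∈ Finset.range n, b2 (X.testBit (k * 78 + i)) * b2 (Y.testBit (c * 78 + k)) := by
  induction n with
  | zero => simp [mulR, b2]
  | succ n ih =>
    have e : mulR (repl 78 78) X Y (n + 1) = ((Y >>> n &&& repl 78 78) * (X >>> (n * 78) % 2 ^ 78)) ^^^
      mulR (repl 78 78) X Y n := rfl
    rw [e, Nat.testBit_xor, b2_xor, ih, testBit_land_repl_mul (Nat.mod_lt _ (by norm_num)) _ _ _ _ hc hi,
      Finset.sum_range_succ, b2_and, Nat.testBit_shiftRight, Nat.testBit_mod_two_pow,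
      Nat.testBit_shiftRight, add_comm, mul_comm (b2 _), add_comm n]
    simp [hi]

/-- the mask -/
def RR : Nat := nat_lit 0x40000000000000000001000000000000000000040000000000000000001000000000000000000040000000000000000001000000000000000000040000000000000000001000000000000000000040000000000000000001000000000000000000040000000000000000001000000000000000000040000000000000000001000000000000000000040000000000000000001000000000000000000040000000000000000001000000000000000000040000000000000000001000000000000000000040000000000000000001000000000000000000040000000000000000001000000000000000000040000000000000000001000000000000000000040000000000000000001000000000000000000040000000000000000001000000000000000000040000000000000000001000000000000000000040000000000000000001000000000000000000040000000000000000001000000000000000000040000000000000000001000000000000000000040000000000000000001000000000000000000040000000000000000001000000000000000000040000000000000000001000000000000000000040000000000000000001000000000000000000040000000000000000001000000000000000000040000000000000000001000000000000000000040000000000000000001000000000000000000040000000000000000001000000000000000000040000000000000000001000000000000000000040000000000000000001000000000000000000040000000000000000001000000000000000000040000000000000000001000000000000000000040000000000000000001000000000000000000040000000000000000001000000000000000000040000000000000000001000000000000000000040000000000000000001000000000000000000040000000000000000001000000000000000000040000000000000000001000000000000000000040000000000000000001000000000000000000040000000000000000001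
/-- the identity -/
def II : Nat := nat_lit 0x800000000000000000010000000000000000000200000000000000000004000000000000000000080000000000000000001000000000000000000020000000000000000000400000000000000000008000000000000000000100000000000000000002000000000000000000040000000000000000000800000000000000000010000000000000000000200000000000000000004000000000000000000080000000000000000001000000000000000000020000000000000000000400000000000000000008000000000000000000100000000000000000002000000000000000000040000000000000000000800000000000000000010000000000000000000200000000000000000004000000000000000000080000000000000000001000000000000000000020000000000000000000400000000000000000008000000000000000000100000000000000000002000000000000000000040000000000000000000800000000000000000010000000000000000000200000000000000000004000000000000000000080000000000000000001000000000000000000020000000000000000000400000000000000000008000000000000000000100000000000000000002000000000000000000040000000000000000000800000000000000000010000000000000000000200000000000000000004000000000000000000080000000000000000001000000000000000000020000000000000000000400000000000000000008000000000000000000100000000000000000002000000000000000000040000000000000000000800000000000000000010000000000000000000200000000000000000004000000000000000000080000000000000000001000000000000000000020000000000000000000400000000000000000008000000000000000000100000000000000000002000000000000000000040000000000000000000800000000000000000010000000000000000000200000000000000000004000000000000000000080000000000000000001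

theorem RR_eq : RR = repl 78 78 := by decide +kernel
theorem pm_II : pm II = 1 := by decide +kernel

/-- the product -/
noncomputable def mu (X Y : Nat) : Nat := frcN X fun X => frcN Y fun Y => mulR RR X Y (nat_lit 78)

theorem pm_mu (X Y : ℕ) : pm (mu X Y) = pm X * pm Y := by
  ext i j
  rw [mu, frcN_eq, frcN_eq, RR_eq, mul_apply]
  exact (bit_mulR X Y 78 (men_lt j) (men_lt i)).trans (sum_men fun k =>
    b2 (X.testBit (k * 78 + men i)) * b2 (Y.testBit (men j * 78 + k))).symm

theorem pv_mu (X v : ℕ) : pv (mu X v) = pm X *ᵥ pv v := by
  ext i
  rw [mu, frcN_eq, frcN_eq, RR_eq, mulVec, dotProduct]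
  have := bit_mulR X v 78 (c := 0) (by norm_num) (men_lt i)
  simp only [zero_mul, zero_add] at this
  exact this.trans (sum_men fun k => b2 (X.testBit (k * 78 + men i)) * b2 (v.testBit k)).symm

theorem pm_col (X : ℕ) (j : I) : pm X *ᵥ Pi.single j 1 = pv (X >>> (men j * 78)) := by
  ext i; simp [pm, pv, mulVec_single_one, Nat.testBit_shiftRight]

/-- linear combinations -/
noncomputable def cmb (L : List Nat) (v : Nat) : Nat := frcN v (appX (nat_lit 1) L).f

theorem bit_cmb (L : List ℕ) (v p : ℕ) : b2 ((cmb L v).testBit p) =
    ∑ k ∈ Finset.range L.length, b2 (v.testBit k) * b2 ((L.getD k 0).testBit p) := by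
  rw [cmb, frcN_eq]
  induction L generalizing v with
  | nil => simp [appX, b2]
  | cons r L ih =>
    have e : (appX 1 (r :: L)).f v = ((v &&& 1) * r) ^^^ (appX 1 L).f (v >>> 1) := rfl
    erw [e, Nat.testBit_xor, b2_xor, ih]
    rw [List.length_cons, Finset.sum_range_succ', add_comm]
    congr 1
    · exact Finset.sum_congr rfl fun k _ => by
        rw [Nat.testBit_shiftRight, List.getD_cons_succ, add_comm]
    · rw [Nat.and_one_is_mod, Nat.testBit_zero, List.getD_cons_zero]
      rcases Nat.mod_two_eq_zero_or_one v with h | h <;> simp [h, b2]

theorem pm_cmb (L : List ℕ) (v : ℕ) : pm (cmb L v) =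
    ∑ k ∈ Finset.range L.length, b2 (v.testBit k) • pm (L.getD k 0) := by
  ext i j; simp [pm, bit_cmb, Matrix.sum_apply]

theorem pv_cmb (L : List ℕ) (v : ℕ) : pv (cmb L v) =
    ∑ k ∈ Finset.range L.length, b2 (v.testBit k) • pv (L.getD k 0) := by
  ext i; simp [pv, bit_cmb]

/-- inequality test -/
noncomputable def nez (X : Nat) : Bool :=
  Bool.not (Nat.beq (Nat.mod X (Nat.pow (nat_lit 2) (nat_lit 6084))) (nat_lit 0))

theorem pm_ne {X : ℕ} (h : nez X = true) : pm X ≠ 0 := fun h0 => by
  have h1 : X % 2 ^ 6084 ≠ 0 := fun e => by
    have : nez X = !(Nat.beq (X % 2 ^ 6084) 0) := rfl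
    rw [this, e] at h; exact absurd h (by decide)
  obtain ⟨p, hp⟩ := Nat.exists_testBit_of_ne_zero h1
  rw [Nat.testBit_mod_two_pow, Bool.and_eq_true, decide_eq_true_eq] at hp
  obtain ⟨j, hj⟩ := menum.2.2.2 (p / 78) (show _ < 78 by omega)
  obtain ⟨i, hi⟩ := menum.2.2.2 (p % 78) (show _ < 78 by omega)
  have := congrFun (congrFun h0 i) j
  rw [pm, of_apply, hi, hj, Nat.div_add_mod', hp.2] at this
  exact absurd (show b2 true = 0 from this) (by decide)

theorem two (A : Mt) : A + A = 0 := by ext i j; exact CharTwo.add_self_eq_zero _

theorem pm_ne' {X Y : ℕ} (h : nez (Nat.xor X Y) = true) : pm X ≠ pm Y := fun e =>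
  pm_ne h ((pm_xor X Y).trans (by rw [e, two]))

/-- words -/
noncomputable def evP (T : List Nat) (w : List Nat) : Nat :=
  @List.rec Nat (fun _ => Nat) II (fun a _ ih => mu (nth II T a) ih) w

theorem pm_evP (T w : List ℕ) : pm (evP T w) = ev (fun k => pm (T.getD k II)) w := by
  induction w with
  | nil => exact pm_II
  | cons a w ih => rw [ev_cons, ← ih, ← nth_eq, ← pm_mu]; rfl

/-- the value of a polynomial -/
def hp (A : Mt) : List Bool → Mt
  | [] => 0
  | c :: l => A * hp A l + if c then 1 else 0

/-- the value of a polynomial -/
noncomputable def hpP (A : Nat) (l : List Bool) : Nat :=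
  @List.rec Bool (fun _ => Nat) (nat_lit 0)
    (fun c _ ih => Nat.xor (mu A ih) (@Bool.rec (fun _ => Nat) (nat_lit 0) II c)) l

theorem pm_hpP (A : ℕ) (l : List Bool) : pm (hpP A l) = hp (pm A) l := by
  induction l with
  | nil => exact pm_zero
  | cons c l ih =>
    rw [hp, ← ih, ← pm_mu]
    cases c
    exacts [(pm_xor _ 0).trans (by rw [pm_zero]; rfl), (pm_xor _ II).trans (by rw [pm_II]; rfl)]

theorem hp_conj {m A B : Mt} (h : m * A = B * m) (l : List Bool) : m * hp A l = hp B l * m := by
  induction l with
  | nil => simp [hp]
  | cons c l ih =>
    rw [hp, hp, mul_add, add_mul, ← mul_assoc, h, mul_assoc, ih, mul_assoc]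
    split_ifs <;> simp

/-- every vector of coefficients is given by the bits of a number -/
theorem exists_bits (d : ℕ) (f : ℕ → ZMod 2) : ∃ j < 2 ^ d, ∀ k < d, b2 (j.testBit k) = f k := by
  induction d with
  | zero => exact ⟨0, by norm_num, by simp⟩
  | succ d ih =>
    obtain ⟨j, h1, h2⟩ := ih
    have h3 : ∀ a : ZMod 2, ∃ b : Bool, b2 b = a := by decide
    obtain ⟨b, hb⟩ := h3 (f d)
    refine ⟨2 ^ d * b.toNat + j, by have := b.toNat_le; rw [pow_succ]; nlinarith, fun k hk => ?_⟩
    rw [Nat.testBit_two_pow_mul_add _ h1]
    split_ifs with h
    · exact h2 k h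
    · obtain rfl : k = d := by omega
      rw [Nat.sub_self, ← hb]; cases b <;> rfl

end Cfsg.Agent.DCE.L6
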