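import Cfsg.Agent.DCE.L6.Dat
import Cfsg.Agent.FE6.Main

/-!
The twisted group of type E6 over the field with four elements acts faithfully by automorphisms
on a Lie algebra of dimension 78 over the field with two elements.
-/

set_option autoImplicit false
set_option maxRecDepth 10000

namespace Cfsg.Agent.DCE.L6
open Cfsg.Agent.Comp Cfsg.Agent.FE6 Cfsg.Agent.Chev Cfsg.Lie Matrix

attribute [local instance] good2E6

/-- the adjoint map -/
noncomputable def ad : Vc →ₗ[ZMod 2] Mt :=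
  Fintype.linearCombination (ZMod 2) fun l => pm (NP.getD (men l) 0)

theorem ad_pv (v : ℕ) : ad (pv v) = pm (cmb NP v) := by
  rw [pm_cmb, ad, Fintype.linearCombination_apply]
  exact sum_men fun k => b2 (v.testBit k) • pm (NP.getD k 0)

/-- automorphisms -/
def IsAut (m : Mt) : Prop := ∀ u, m * ad u = ad (m *ᵥ u) * m

theorem aut_GP : ∀ X ∈ GP, IsAut (pm X) := fun X hX u => by
  have h := aut_chk
  simp only [lall_eq] at h
  have h1 : ∀ l : I, pm X * ad (Pi.single l 1) = ad (pm X *ᵥ Pi.single l 1) * pm X := fun l => by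
    have := congrArg pm (Nat.eq_of_beq_eq_true (h X hX (men l) (List.mem_range.2 (men_lt l))))
    rw [pm_mu, pm_mu, nth_eq] at this
    rw [pm_col, ad_pv, ad, Fintype.linearCombination_apply_single, one_smul]
    exact this
  rw [pi_eq_sum_univ' u]
  simp only [map_sum, map_smul, mulVec_sum, mulVec_smul, Finset.mul_sum, Finset.sum_mul,
    mul_smul_comm, smul_mul_assoc, h1]

theorem M4_lo {k : ℕ} (h : k < 20) : M4 k = Mm (k + 9) :=
  congrArg (matOf _ _ _) (T4_eq k h)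

theorem mat_r4 (X : ℕ) : matOf 1 (sbs 78 156 men (w4 : K4)) men (r4 X) =
    (algebraMap (ZMod 2) K4).mapMatrix (pm X) := by
  rw [(menum.std (len := 156) (by decide) _).matOf_eq]
  ext i j : 1
  have h1 : (r4 X).getD (men j) 0 = X >>> (men j * 78) % 2 ^ 78 := by
    rw [r4, List.getD_append _ _ _ _ (by simpa using men_lt j),
      List.getD_eq_getElem _ _ (by simpa using men_lt j)]
    simp
  have h2 : ∀ r k : ℕ, dig 1 r k = (r.testBit k).toNat := fun r k => by
    rw [dig, one_mul, pow_one, Nat.toNat_testBit, Nat.shiftRight_eq_div_pow]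
  have h3 := men_lt i
  simp only [fastMat, of_apply, h1, h2, Nat.testBit_mod_two_pow, Nat.testBit_shiftRight,
    RingHom.mapMatrix_apply, map_apply, pm]
  rw [decide_eq_true h3, decide_eq_false (show ¬ _ < 78 by simp)]
  cases X.testBit (men j * 78 + men i) <;> simp [b2]

theorem M4_hi {k : ℕ} (h : k < 12) :
    M4 (22 + k) = (algebraMap (ZMod 2) K4).mapMatrix (pm (GP.getD k 0)) := by
  rw [← mat_r4]
  refine congrArg (matOf _ _ _) ?_
  interval_cases k <;> rfl

variable {K : Type*} [Field K] (ι : K4 →+* K)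

theorem QI_QQ : M4 21 * M4 20 = 1 := by simpa using eqs4 ([21, 20], []) (by decide)
theorem QQ_QI : M4 20 * M4 21 = 1 := by simpa using eqs4 ([20, 21], []) (by decide)

/-- the change of basis -/
noncomputable def FF : Mt →* Matrix I I K where
  toFun m := ι.mapMatrix (M4 20 * (algebraMap (ZMod 2) K4).mapMatrix m * M4 21)
  map_one' := by rw [map_one, mul_one, QQ_QI, map_one]
  map_mul' a b := by
    rw [← map_mul, map_mul _ a b]
    refine congrArg _ ?_
    simp only [mul_assoc]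
    rw [← mul_assoc (M4 21), QI_QQ, one_mul]

theorem FF_inj : Function.Injective (FF ι) := fun a b h => by
  have h1 := congrArg (fun z => M4 21 * z * M4 20) (Matrix.map_injective ι.injective h)
  simp only [← mul_assoc, QI_QQ, one_mul] at h1
  simp only [mul_assoc, QI_QQ, mul_one] at h1
  exact Matrix.map_injective (algebraMap (ZMod 2) K4).injective h1

theorem FF_one {k : ℕ} (h : k < 12) : FF ι (pm (GP.getD k 0)) = ι.mapMatrix (ev Mm (X.getD k [])) := by
  have hd : ∀ k < 12, ((X.getD k []).map (· - 9), [20, 22 + k, 21]) ∈ E4 ∧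
    ∀ x ∈ X.getD k [], 9 ≤ x ∧ x < 29 := by decide +kernel
  have := eqs4 _ (hd k h).1
  simp only [ev_cons, ev_nil, mul_one, M4_hi h, ← mul_assoc] at this
  refine congrArg ι.mapMatrix (this.symm.trans ?_)
  rw [ev, List.map_map]
  exact congrArg List.prod (List.map_congr_left fun x hx => by
    have := (hd k h).2 x hx
    rw [Function.comp, M4_lo (by omega), Nat.sub_add_cancel this.1])

theorem FF_two {k a b c d : ℕ} (h : k + 1 < 12 ∧ a < 20 ∧ b < 20 ∧ c < 20 ∧ d < 20 ∧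
    ([a, c, b, d], [20, 22 + k, 22 + (k + 1), 21]) ∈ E4) :
    FF ι (pm (GP.getD k 0) * pm (GP.getD (k + 1) 0)) =
      ι.mapMatrix (Mm (a + 9) * Mm (c + 9) * (Mm (b + 9) * Mm (d + 9))) := by
  obtain ⟨h1, h2, h3, h4, h5, h6⟩ := h
  have := eqs4 _ h6
  simp only [ev_cons, ev_nil, mul_one, M4_hi h1, M4_hi (Nat.lt_of_succ_lt h1), M4_lo h2, M4_lo h3,
    M4_lo h4, M4_lo h5] at this
  refine congrArg ι.mapMatrix ?_
  simp only [map_mul, mul_assoc, this]

/-- the image of the automorphisms -/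
def SA : Submonoid (Matrix I I K) where
  carrier := {z | ∃ m, FF ι m = z ∧ IsAut m}
  one_mem' := ⟨1, map_one _, fun u => by simp⟩
  mul_mem' := fun ⟨a, e1, ha⟩ ⟨b, e2, hb⟩ => ⟨a * b, by rw [map_mul, e1, e2], fun u => by
    rw [mul_assoc, hb u, ← mul_assoc, ha (b *ᵥ u), mulVec_mulVec, mul_assoc]⟩

theorem mem_SA {k : ℕ} (h : k < 12) : FF ι (pm (GP.getD k 0)) ∈ SA ι :=
  ⟨_, rfl, aut_GP _ (by rw [List.getD_eq_getElem GP _ h]; exact List.getElem_mem _)⟩

theorem one_SA {k x r : ℕ} {h : r < chevE6.nroots} (e : Mm x = chevE6.xMat K4 ⟨r, h⟩ 1)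
    (hk : k < 12 ∧ X.getD k [] = [x]) {t : K} (ht : t ^ 2 = t) :
    chevE6.wordMat K [(r, t)] ∈ SA ι := by
  have h1 := mem_SA ι hk.1
  rw [FF_one ι hk.1, hk.2, ev_single, e, xMat_map, map_one] at h1
  have h2 : t = 0 ∨ t = 1 := by
    rw [← sub_eq_zero (b := 1), ← mul_eq_zero, mul_sub, ← sq, ht, mul_one, sub_self]
  rcases h2 with rfl | rfl
  · simpa [ChevalleyDatum.wordMat, x_zero'] using one_mem _
  · simpa [ChevalleyDatum.wordMat, ChevalleyDatum.x, h] using h1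

theorem two_SA {k a b c d r s : ℕ} {h : r < chevE6.nroots} {h' : s < chevE6.nroots}
    (e1 : Mm (a + 9) = chevE6.xMat K4 ⟨r, h⟩ 1) (e2 : Mm (b + 9) = chevE6.xMat K4 ⟨s, h'⟩ 1)
    (e3 : Mm (c + 9) = chevE6.xMat K4 ⟨r, h⟩ w4) (e4 : Mm (d + 9) = chevE6.xMat K4 ⟨s, h'⟩ (1 + w4))
    (hk : (k + 1 < 12 ∧ a < 20 ∧ b < 20 ∧ c < 20 ∧ d < 20 ∧
      ([a, c, b, d], [20, 22 + k, 22 + (k + 1), 21]) ∈ E4) ∧ X.getD k [] = [a + 9, b + 9] ∧
      X.getD (k + 1) [] = [c + 9, d + 9]) (t : K4) :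
    chevE6.wordMat K [(r, ι t), (s, ι t ^ 2)] ∈ SA ι := by
  have h1 := mem_SA ι (Nat.lt_of_succ_lt hk.1.1)
  have h2 := mem_SA ι hk.1.1
  have h3 := mul_mem h1 h2
  rw [← map_mul, FF_two ι hk.1] at h3
  rw [FF_one ι (Nat.lt_of_succ_lt hk.1.1), hk.2.1] at h1
  rw [FF_one ι hk.1.1, hk.2.2] at h2
  have e : ∀ u v : K4, chevE6.wordMat K [(r, ι u), (s, ι v)] =
      ι.mapMatrix (chevE6.x K4 r u * chevE6.x K4 s v) := fun u v => by
    simp [ChevalleyDatum.wordMat, ChevalleyDatum.x, h, h', ← xMat_map]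
  have x1 : ∀ u, chevE6.xMat K4 ⟨r, h⟩ u = chevE6.x K4 r u := fun u => by simp [ChevalleyDatum.x, h]
  have x2 : ∀ u, chevE6.xMat K4 ⟨s, h'⟩ u = chevE6.x K4 s u := fun u => by simp [ChevalleyDatum.x, h']
  simp only [ev_cons, ev_nil, mul_one, e1, e2, e3, e4, x1, x2, x_add'] at h1 h2 h3
  have ht : ∀ t : K4, t = 0 ∧ t ^ 2 = 0 ∨ t = 1 ∧ t ^ 2 = 1 ∨ t = w4 ∧ t ^ 2 = 1 + w4 ∨
    t = 1 + w4 ∧ t ^ 2 = 1 + (1 + w4) := by decide +kernel
  rw [← map_pow, e]
  rcases ht t with ⟨h4, h5⟩ | ⟨h4, h5⟩ | ⟨h4, h5⟩ | ⟨h4, h5⟩ <;> rw [h5, h4]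
  · rw [x_zero', x_zero', mul_one, map_one]; exact one_mem _
  exacts [h1, h2, h3]

theorem le_SA [Fintype K] (hK : Fintype.card K = 4) {g : GL I K} (hg : g ∈ twistedE6 K 2) :
    g.1 ∈ SA ι := by
  have hs := ((Fintype.bijective_iff_injective_and_card ι).2 ⟨ι.injective, card_K4.trans hK.symm⟩).2
  have h : g ∈ (twistedE6 K 2).toSubmonoid := hg
  rw [twistedE6, ChevalleyDatum.genSubgroup, Subgroup.closure_toSubmonoid_of_finite] at h
  refine (Submonoid.closure_le (S := (SA ι).comap (Units.coeHom _))).2 ?_ h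
  rintro g ⟨w, ⟨t, ht, r, hr, rfl⟩ | ⟨t, rs, hr, rfl⟩, e⟩
  · refine (congrArg (· ∈ SA ι) e).mpr ?_
    simp only [List.mem_cons, List.not_mem_nil, or_false] at hr
    rcases hr with rfl | rfl | rfl | rfl
    exacts [one_SA ι (k := 0) m9 (by decide) ht, one_SA ι (k := 1) m10 (by decide) ht,
      one_SA ι (k := 2) m11 (by decide) ht, one_SA ι (k := 3) m12 (by decide) ht]
  · refine (congrArg (· ∈ SA ι) e).mpr ?_
    obtain ⟨t, rfl⟩ := hs t
    simp only [List.mem_cons, List.not_mem_nil, or_false] at hr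
    rcases hr with rfl | rfl | rfl | rfl
    exacts [two_SA ι (k := 4) (a := 4) (b := 5) (c := 6) (d := 7) m13 m14 m15 m16 (by decide) t,
      two_SA ι (k := 6) (a := 8) (b := 9) (c := 10) (d := 11) m17 m18 m19 m20 (by decide) t,
      two_SA ι (k := 8) (a := 12) (b := 13) (c := 14) (d := 15) m21 m22 m23 m24 (by decide) t,
      two_SA ι (k := 10) (a := 16) (b := 17) (c := 18) (d := 19) m25 m26 m27 m28 (by decide) t]

/-- a faithful action by automorphisms whose image contains the generators -/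
structure Act {G : Type*} [Group G] (ρ : G →* Mt) : Prop where
  inj : Function.Injective ρ
  aut : ∀ g, IsAut (ρ g)
  gen : ∀ X ∈ GP, ∃ g, ρ g = pm X

theorem exists_act [Fintype K] (hK : Fintype.card K = 4) : ∃ ρ : twistedE6 K 2 →* Mt, Act ρ := by
  obtain ⟨ι⟩ := exists_k4hom K hK
  choose f h1 h2 using fun g : twistedE6 K 2 => le_SA ι hK g.2
  refine ⟨⟨⟨f, FF_inj ι (by rw [h1, map_one]; rfl)⟩, fun a b => FF_inj ι (by
    rw [map_mul, h1, h1, h1]; rfl)⟩, fun a b h => Subtype.ext (Units.ext (by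
      rw [← h1, ← h1]; exact congrArg _ h)), h2, fun Y hY => ?_⟩
  obtain ⟨k, hk, rfl⟩ := List.getElem_of_mem hY
  have h3 : FF ι (pm GP[k]) * FF ι (pm GP[k]) = 1 := by
    rw [← map_mul, ← pm_mu, Nat.eq_of_beq_eq_true (lall_eq _ _ |>.1 inv_chk _ hY), pm_II, map_one]
  have h4 := FF_one ι (k := k) hk
  rw [List.getD_eq_getElem _ _ hk] at h4
  refine ⟨⟨⟨_, _, h3, h3⟩, hX ι (X.getD k []) ?_ _ h4⟩, FF_inj ι (h1 _)⟩
  rw [List.getD_eq_getElem X _ hk]; exact List.getElem_mem _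

end Cfsg.Agent.DCE.L6
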